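import Cfsg.Agent.H58.Util

set_option autoImplicit false
set_option maxRecDepth 100000
set_option exponentiation.threshold 400000

namespace Cfsg.Agent.H26.C1M1

open Cfsg Cfsg.Agent.H58

def n1 : Net := Net.nil
def n2 : Net := Net.nil
def n3 : Net := Net.nil
def n4 : Net := Net.nil
def n5 : Net := Net.nil
def n7 : Net := Net.nil
def n8 : Net := Net.nil
def n9 : Net := Net.nil
def n10 : Net := Net.nil
def n11 : Net := Net.nil
def n12 : Net := Net.nil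
def n13 : Net := Net.nil
def n14 : Net := Net.nil
def n15 : Net := Net.nil
def n16 : Net := Net.nil
def n17 : Net := Net.nil
def m18_0 : Nat := nat_lit 0x2
def m18_1 : Nat := nat_lit 0x4
def m18_2 : Nat := nat_lit 0x2
def n18 : Net := (Net.cons m18_0 (nat_lit 2) (Net.cons m18_1 (nat_lit 1) (Net.cons m18_2 (nat_lit 2) Net.nil)))
def m19_0 : Nat := nat_lit 0x1
def n19 : Net := (Net.cons m19_0 (nat_lit 1) Net.nil)

def nets : List Net := [Net.nil, n1, n2, n3, n4, n5, Net.nil, n7, n8, n9, n10, n11, n12, n13, n14, n15, n16, n17, n18, n19]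

def iv : Nat := 400543381949800802215407720860491840

def rels : List (List Nat) := [[1, 7, 1, 7],
  [1, 8, 1, 8],
  [1, 9, 1, 9],
  [1, 10, 1, 10, 7],
  [1, 11, 1, 11, 7],
  [1, 12, 1, 16, 14, 13, 12, 11, 9],
  [1, 13, 1, 17, 16, 12, 11, 8],
  [1, 14, 1, 16, 15, 14, 13, 11, 9],
  [1, 15, 1, 16, 13, 11, 9],
  [1, 16, 1, 17, 16, 15, 12],
  [1, 17, 1, 17, 15, 14],
  [1, 18, 1, 18, 16, 15, 13, 11, 9],
  [2, 7, 2, 7],
  [2, 8, 2, 9],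
  [2, 9, 2, 8],
  [2, 10, 2, 11, 9],
  [2, 11, 2, 10, 8],
  [2, 12, 2, 12, 11, 10, 8],
  [2, 13, 2, 15, 12, 8],
  [2, 14, 2, 17, 16, 11, 10, 9],
  [2, 15, 2, 13, 12, 11, 10, 7],
  [2, 16, 2, 17, 15, 14, 13, 12, 9],
  [2, 17, 2, 17, 15, 13, 12, 11, 10],
  [2, 18, 2, 18, 16, 14, 13, 12, 7],
  [3, 7, 3, 7],
  [3, 8, 3, 8],
  [3, 9, 3, 9],
  [3, 10, 3, 10],
  [3, 11, 3, 11, 9],
  [3, 12, 3, 17, 14, 12, 11, 7],
  [3, 13, 3, 17, 16, 13, 12, 8],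
  [3, 14, 3, 17, 11, 7],
  [3, 15, 3, 17, 15, 12, 11],
  [3, 16, 3, 16, 9],
  [3, 17, 3, 14, 11, 8],
  [3, 18, 3, 18, 14, 12, 7],
  [4, 7, 4, 7],
  [4, 8, 4, 11, 10, 7],
  [4, 9, 4, 11, 10],
  [4, 10, 4, 11, 9],
  [4, 11, 4, 11],
  [4, 12, 4, 16, 14, 13, 12, 10, 7],
  [4, 13, 4, 17, 14, 13, 10, 7],
  [4, 14, 4, 16, 15, 14, 13, 12, 11, 10, 8],
  [4, 15, 4, 14, 12, 10],
  [4, 16, 4, 17, 15, 14, 13, 12, 10],
  [4, 17, 4, 17, 16, 15, 13, 12, 7],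
  [4, 18, 4, 18, 16, 15, 13, 12, 7],
  [5, 7, 5, 8],
  [5, 8, 5, 7],
  [5, 9, 5, 9],
  [5, 10, 5, 10, 9],
  [5, 11, 5, 11, 10, 8],
  [5, 12, 5, 14, 8],
  [5, 13, 5, 15, 13, 12, 11],
  [5, 14, 5, 12, 7],
  [5, 15, 5, 15, 14, 12, 10],
  [5, 16, 5, 16, 14, 12, 10, 9],
  [5, 17, 5, 17, 14, 12, 10],
  [5, 18, 5, 18, 17, 14, 11, 10],
  [19, 1, 19, 1, 7],
  [19, 2, 19, 2],
  [19, 3, 19, 3],
  [19, 4, 19, 4],
  [19, 5, 19, 5, 10, 7],
  [19, 7, 19, 7],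
  [19, 8, 19, 8],
  [19, 9, 19, 9],
  [19, 10, 19, 10],
  [19, 11, 19, 11],
  [19, 12, 19, 3, 2, 1, 3, 2, 3, 1, 2, 3, 2, 12, 11, 10, 8],
  [19, 13, 19, 3, 2, 1, 3, 2, 3, 2, 1, 3, 2, 13, 8],
  [19, 14, 19, 3, 1, 2, 1, 3, 2, 1, 3, 2, 3, 2, 1, 14, 11],
  [19, 15, 19, 3, 2, 1, 2, 1, 3, 15, 11, 10],
  [19, 16, 19, 3, 1, 3, 2, 3, 1, 2, 3, 2, 1, 3, 2, 3, 1, 16, 10],
  [19, 17, 19, 3, 1, 3, 2, 3, 2, 1, 2, 3, 1, 2, 1, 17, 11, 9],
  [19, 18, 19, 18, 19, 18],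
  [7, 18, 7, 18],
  [8, 18, 8, 18],
  [9, 18, 9, 18],
  [10, 18, 10, 18],
  [11, 18, 11, 18],
  [12, 18, 12, 18],
  [13, 18, 13, 18],
  [14, 18, 14, 18],
  [15, 18, 15, 18],
  [16, 18, 16, 18],
  [17, 18, 17, 18]]

def pairs0 : List (List Nat × List Nat) := [([1, 1], []),
  ([2, 2], []),
  ([3, 3], []),
  ([4, 4], []),
  ([5, 5], []),
  ([6, 6], []),
  ([7, 7], []),
  ([8, 8], []),
  ([9, 9], []),
  ([10, 10], []),
  ([11, 11], []),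
  ([12, 12], []),
  ([13, 13], []),
  ([14, 14], []),
  ([15, 15], []),
  ([16, 16], []),
  ([17, 17], []),
  ([18, 18], []),
  ([19, 19], []),
  ([1, 7], [7, 1]),
  ([1, 8], [8, 1]),
  ([1, 9], [9, 1]),
  ([1, 10, 1], [7, 10]),
  ([1, 11, 1], [7, 11]),
  ([1, 12, 1, 16, 14], [9, 11, 12, 13]),
  ([1, 13, 1, 17], [8, 11, 12, 16]),
  ([1, 14, 1, 16, 15], [9, 11, 13, 14]),
  ([1, 15, 1, 16], [9, 11, 13]),
  ([1, 16, 1, 17], [12, 15, 16]),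
  ([1, 17, 1], [14, 15, 17]),
  ([1, 18, 1, 18, 16], [9, 11, 13, 15]),
  ([2, 7], [7, 2]),
  ([2, 8], [9, 2]),
  ([2, 9], [8, 2]),
  ([2, 10, 2], [9, 11]),
  ([2, 11, 2], [8, 10]),
  ([2, 12, 2, 12], [8, 10, 11]),
  ([2, 13, 2], [8, 12, 15]),
  ([2, 14, 2, 17], [9, 10, 11, 16]),
  ([2, 15, 2, 13], [7, 10, 11, 12]),
  ([2, 16, 2, 17, 15], [9, 12, 13, 14]),
  ([2, 17, 2, 17, 15], [10, 11, 12, 13]),
  ([2, 18, 2, 18, 16], [7, 12, 13, 14]),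
  ([3, 7], [7, 3]),
  ([3, 8], [8, 3]),
  ([3, 9], [9, 3]),
  ([3, 10], [10, 3]),
  ([3, 11, 3], [9, 11]),
  ([3, 12, 3, 17], [7, 11, 12, 14]),
  ([3, 13, 3, 17], [8, 12, 13, 16]),
  ([3, 14, 3], [7, 11, 17]),
  ([3, 15, 3, 17], [11, 12, 15]),
  ([3, 16, 3], [9, 16])]
def pairs1 : List (List Nat × List Nat) := [([3, 17, 3], [8, 11, 14]),
  ([3, 18, 3, 18], [7, 12, 14]),
  ([4, 7], [7, 4]),
  ([4, 8, 4], [7, 10, 11]),
  ([4, 9, 4], [10, 11]),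
  ([4, 10, 4], [9, 11]),
  ([4, 11], [11, 4]),
  ([4, 12, 4, 16, 14], [7, 10, 12, 13]),
  ([4, 13, 4, 17], [7, 10, 13, 14]),
  ([4, 14, 4, 16, 15, 14], [8, 10, 11, 12, 13]),
  ([4, 15, 4], [10, 12, 14]),
  ([4, 16, 4, 17, 15], [10, 12, 13, 14]),
  ([4, 17, 4, 17, 16], [7, 12, 13, 15]),
  ([4, 18, 4, 18, 16], [7, 12, 13, 15]),
  ([5, 7], [8, 5]),
  ([5, 8], [7, 5]),
  ([5, 9], [9, 5]),
  ([5, 10, 5], [9, 10]),
  ([5, 11, 5], [8, 10, 11]),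
  ([5, 12, 5], [8, 14]),
  ([5, 13, 5, 15], [11, 12, 13]),
  ([5, 14, 5], [7, 12]),
  ([5, 15, 5, 15], [10, 12, 14]),
  ([5, 16, 5, 16], [9, 10, 12, 14]),
  ([5, 17, 5, 17], [10, 12, 14]),
  ([5, 18, 5, 18], [10, 11, 14, 17]),
  ([19, 1, 19], [7, 1]),
  ([19, 2], [2, 19]),
  ([19, 3], [3, 19]),
  ([19, 4], [4, 19]),
  ([19, 5, 19], [7, 10, 5]),
  ([19, 7], [7, 19]),
  ([19, 8], [8, 19]),
  ([19, 9], [9, 19]),
  ([19, 10], [10, 19]),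
  ([19, 11], [11, 19]),
  ([19, 12, 19, 3, 2, 1, 3, 2, 3], [8, 10, 11, 12, 2, 3, 2, 1]),
  ([19, 13, 19, 3, 2, 1, 3, 2], [8, 13, 2, 3, 1, 2, 3])]
def pairs2 : List (List Nat × List Nat) := [([19, 14, 19, 3, 1, 2, 1, 3, 2], [11, 14, 1, 2, 3, 2, 3, 1]),
  ([19, 15, 19, 3, 2, 1], [10, 11, 15, 3, 1, 2]),
  ([19, 16, 19, 3, 1, 3, 2, 3, 1, 2], [10, 16, 1, 3, 2, 3, 1, 2, 3]),
  ([19, 17, 19, 3, 1, 3, 2, 3, 2], [9, 11, 17, 1, 2, 1, 3, 2, 1]),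
  ([19, 18, 19], [18, 19, 18]),
  ([7, 18], [18, 7]),
  ([8, 18], [18, 8]),
  ([9, 18], [18, 9]),
  ([10, 18], [18, 10]),
  ([11, 18], [18, 11]),
  ([12, 18], [18, 12]),
  ([13, 18], [18, 13]),
  ([14, 18], [18, 14]),
  ([15, 18], [18, 15]),
  ([16, 18], [18, 16]),
  ([17, 18], [18, 17])]
theorem ne0 : netErr 4 (getNet nets 0) = 0 := by decide +kernel
theorem ne1 : netErr 4 (getNet nets 1) = 0 := by decide +kernel
theorem ne2 : netErr 4 (getNet nets 2) = 0 := by decide +kernel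
theorem ne3 : netErr 4 (getNet nets 3) = 0 := by decide +kernel
theorem ne4 : netErr 4 (getNet nets 4) = 0 := by decide +kernel
theorem ne5 : netErr 4 (getNet nets 5) = 0 := by decide +kernel
theorem ne6 : netErr 4 (getNet nets 6) = 0 := by decide +kernel
theorem ne7 : netErr 4 (getNet nets 7) = 0 := by decide +kernel
theorem ne8 : netErr 4 (getNet nets 8) = 0 := by decide +kernel
theorem ne9 : netErr 4 (getNet nets 9) = 0 := by decide +kernel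
theorem ne10 : netErr 4 (getNet nets 10) = 0 := by decide +kernel
theorem ne11 : netErr 4 (getNet nets 11) = 0 := by decide +kernel
theorem ne12 : netErr 4 (getNet nets 12) = 0 := by decide +kernel
theorem ne13 : netErr 4 (getNet nets 13) = 0 := by decide +kernel
theorem ne14 : netErr 4 (getNet nets 14) = 0 := by decide +kernel
theorem ne15 : netErr 4 (getNet nets 15) = 0 := by decide +kernel
theorem ne16 : netErr 4 (getNet nets 16) = 0 := by decide +kernel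
theorem ne17 : netErr 4 (getNet nets 17) = 0 := by decide +kernel
theorem ne18 : netErr 4 (getNet nets 18) = 0 := by decide +kernel
theorem ne19 : netErr 4 (getNet nets 19) = 0 := by decide +kernel
theorem netsOK : NetsOK nets 4 := netsOK_of (show ∀ x < 20, _ from (blocks_cons (blocks_cons (blocks_cons (blocks_cons (blocks_cons (blocks_cons (blocks_cons (blocks_cons (blocks_cons (blocks_cons (blocks_cons (blocks_cons (blocks_cons (blocks_cons (blocks_cons (blocks_cons (blocks_cons (blocks_cons (blocks_cons (blocks_cons (blocks_nil _) ne0) ne1) ne2) ne3) ne4) ne5) ne6) ne7) ne8) ne9) ne10) ne11) ne12) ne13) ne14) ne15) ne16) ne17) ne18) ne19))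

theorem e0_0 : eqsAt nets 4 2 pairs0 0 = 0 := by decide +kernel
theorem e0_1 : eqsAt nets 4 2 pairs0 1 = 0 := by decide +kernel
theorem eq0 : ∀ p ∈ pairs0, (p.1.map (elN nets)).prod = (p.2.map (elN nets)).prod :=
  eqs_sound netsOK (by decide) (blocks_cons (blocks_cons (blocks_nil _) e0_0) e0_1)
theorem e1_0 : eqsAt nets 4 2 pairs1 0 = 0 := by decide +kernel
theorem e1_1 : eqsAt nets 4 2 pairs1 1 = 0 := by decide +kernel
theorem eq1 : ∀ p ∈ pairs1, (p.1.map (elN nets)).prod = (p.2.map (elN nets)).prod :=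
  eqs_sound netsOK (by decide) (blocks_cons (blocks_cons (blocks_nil _) e1_0) e1_1)
theorem e2_0 : eqsAt nets 4 2 pairs2 0 = 0 := by decide +kernel
theorem e2_1 : eqsAt nets 4 2 pairs2 1 = 0 := by decide +kernel
theorem eq2 : ∀ p ∈ pairs2, (p.1.map (elN nets)).prod = (p.2.map (elN nets)).prod :=
  eqs_sound netsOK (by decide) (blocks_cons (blocks_cons (blocks_nil _) e2_0) e2_1)

theorem ruleN : RuleOK (elN nets) rels iv :=
  ruleOK_of_eqs (pairs := pairs0 ++ (pairs1 ++ (pairs2))) rfl (List.forall_mem_append.2 ⟨eq0, List.forall_mem_append.2 ⟨eq1, eq2⟩⟩) (by decide +kernel)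

end Cfsg.Agent.H26.C1M1
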